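import Mathlib
import Cfsg.Agent.Spor.NM.Mat

/-! Generated by tools/nm/nminst.py: packed 5 × 5 matrices over the field with 4 elements, fields of 15 bits. -/

set_option autoImplicit false
set_option exponentiation.threshold 10000

namespace Cfsg.Agent.Spor.NM.F4x5

/-- The unreduced product. -/
noncomputable def rawN (A B : ℕ) : ℕ :=
  (Nat.add (Nat.add (Nat.add (Nat.add (Nat.mul (Nat.land A (nat_lit 0x21000000000000000004200000000000000000840000000000000000108000000000000000021))
      (Nat.land B (nat_lit 0x7ffffffffffffffffff)))
    (Nat.mul (Nat.land (Nat.shiftRight A (nat_lit 15)) (nat_lit 0x21000000000000000004200000000000000000840000000000000000108000000000000000021))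
      (Nat.land (Nat.shiftRight B (nat_lit 75)) (nat_lit 0x7ffffffffffffffffff))))
    (Nat.mul (Nat.land (Nat.shiftRight A (nat_lit 30)) (nat_lit 0x21000000000000000004200000000000000000840000000000000000108000000000000000021))
      (Nat.land (Nat.shiftRight B (nat_lit 150)) (nat_lit 0x7ffffffffffffffffff))))
    (Nat.mul (Nat.land (Nat.shiftRight A (nat_lit 45)) (nat_lit 0x21000000000000000004200000000000000000840000000000000000108000000000000000021))
      (Nat.land (Nat.shiftRight B (nat_lit 225)) (nat_lit 0x7ffffffffffffffffff))))
    (Nat.mul (Nat.land (Nat.shiftRight A (nat_lit 60)) (nat_lit 0x21000000000000000004200000000000000000840000000000000000108000000000000000021))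
      (Nat.land (Nat.shiftRight B (nat_lit 300)) (nat_lit 0x7ffffffffffffffffff))))

/-- The identity matrix. -/
def one : ℕ := (nat_lit 0x1000000000000000000000040000000000000000000001000000000000000000000040000000000000000000001)

theorem rawN_eq (A B : ℕ) : rawN A B = raw 15 5 5 33 A B := by
  have h1 : pk (15 * 5) (fun _ => 33) 5 = 0x21000000000000000004200000000000000000840000000000000000108000000000000000021 := by decide +kernel
  have h2 : 2 ^ (15 * 5) - 1 = 0x7ffffffffffffffffff := by decide +kernel
  unfold raw
  rw [h1, h2]
  simp only [Finset.sum_range_succ, Finset.sum_range_zero, Nat.zero_add, Nat.mul_zero, Nat.shiftRight_zero,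
    Nat.reduceMul]
  rfl

/-- The product of packed matrices. -/
noncomputable def mul (A B : ℕ) : ℕ := red4 (nat_lit 0x21004200840108021004200840108021004200840108021004200840108021004200840108021004200840108021) (nat_lit 0x1000200040008001000200040008001000200040008001000200040008001000200040008001000200040008001) (rawN A B)

/-- The test for admissible entries. -/
noncomputable def ent (A : ℕ) : Bool := Nat.beq A (Nat.land A (nat_lit 0x21004200840108021004200840108021004200840108021004200840108021004200840108021004200840108021))

theorem spec {F : Type*} [Field F] (h2 : (2 : F) = 0) (ω : F) (hω : ω ^ 2 + ω + 1 = 0) :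
    MatSpec F 5 15 ok4 (phi4 ω) mul one ent := by
  have h1 : pk 15 (fun _ => 33) (5 * 5) = 0x21004200840108021004200840108021004200840108021004200840108021004200840108021004200840108021 := by decide +kernel
  have h0 : pk 15 (fun _ => 1) (5 * 5) = 0x1000200040008001000200040008001000200040008001000200040008001000200040008001000200040008001 := by decide +kernel
  refine matSpec_four h2 ω hω (by norm_num) (fun a b => ?_) (by decide +kernel) fun a ha => ?_
  · rw [h1, h0, ← rawN_eq]; rfl
  · rw [h1]; exact (nbeq_iff _ _).1 ha

end Cfsg.Agent.Spor.NM.F4x5
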